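import Groth.Agent.Sga4h.H222.Tors
import Groth.Prelude.Def_FinFr
import Mathlib.FieldTheory.Galois.Basic
import Mathlib.FieldTheory.Finite.GaloisField
import Mathlib.RingTheory.Etale.Field
import Mathlib.GroupTheory.SpecificGroups.Cyclic

/-!
# Constructions of finite étale torsors

* `isTors_gal`: `X₀ ×_k K → X₀` for `K / k` finite Galois;
* `isTors_ext`: `X₀ ×_k k' → X₀` for `k' / k` finite fields, under `ℤ / N`, the generator acting by Frobenius;
* `isTors_prod`: the fibre product of two torsors.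
-/

set_option autoImplicit false
universe u w w₁ w₂
open CategoryTheory CategoryTheory.Limits AlgebraicGeometry Opposite

namespace Groth.Agent.Sga4h.H526.TorsConstr

open Groth.Agent.Sga4h.H222.Tors

section Field

variable {k K : Type u} [Field k] [Field K] [Algebra k K]

/-- Embeddings of a finite Galois extension in an algebraically closed field. -/
theorem exists_unique_algEquiv [FiniteDimensional k K] [IsGalois k K] {Ω : Type u} [Field Ω] [IsAlgClosed Ω]
    (u v : K →+* Ω) (h : u.comp (algebraMap k K) = v.comp (algebraMap k K)) :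
    ∃! σ : K ≃ₐ[k] K, u.comp (σ : K →+* K) = v := by
  let _ : Algebra k Ω := (u.comp (algebraMap k K)).toAlgebra
  let u' : K →ₐ[k] Ω := { u with commutes' := fun _ => rfl }
  let v' : K →ₐ[k] Ω := { v with commutes' := fun x => (DFunLike.congr_fun h x).symm }
  let Φ : (K ≃ₐ[k] K) → (K →ₐ[k] Ω) := fun σ => u'.comp (σ : K →ₐ[k] K)
  have hinj : Function.Injective Φ := by
    intro σ τ hστ
    ext x
    exact u.injective (DFunLike.congr_fun hστ x)
  have hcard : Nat.card (K →ₐ[k] Ω) ≤ Nat.card (K ≃ₐ[k] K) := by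
    rw [IsGalois.card_aut_eq_finrank, AlgHom.natCard_of_splits k K Ω (fun _ => IsAlgClosed.splits _)]
  have hfin : Finite (K →ₐ[k] Ω) := inferInstance
  have hbij := hinj.bijective_of_nat_card_le hcard
  obtain ⟨σ, hσ, hu⟩ := hbij.existsUnique v'
  refine ⟨σ, ?_, fun τ hτ => hu τ ?_⟩
  · ext x
    exact DFunLike.congr_fun hσ x
  · ext x
    exact DFunLike.congr_fun hτ x

end Field

section Gal

variable {k K : Type u} [Field k] [Field K] [Algebra k K] {X₀ : Scheme.{u}} (a : X₀ ⟶ Spec (CommRingCat.of k))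

theorem galAct_mul (σ τ : K ≃ₐ[k] K) : FinFr.galAct a (σ * τ) = FinFr.galAct a σ ≫ FinFr.galAct a τ := by
  apply pullback.hom_ext
  · rw [Category.assoc, FinFr.galAct_fst, FinFr.galAct_fst, FinFr.galAct_fst]
  · rw [Category.assoc]
    erw [FinFr.galAct_snd, FinFr.galAct_snd]
    rw [← Category.assoc]
    erw [FinFr.galAct_snd]
    rw [Category.assoc, ← Spec.map_comp]
    rfl

theorem galAct_one : FinFr.galAct a (1 : K ≃ₐ[k] K) = 𝟙 _ := by
  apply pullback.hom_ext
  · rw [FinFr.galAct_fst, Category.id_comp]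
  · erw [FinFr.galAct_snd, Category.id_comp]
    have : Spec.map (CommRingCat.ofHom ((1 : K ≃ₐ[k] K) : K →+* K)) = 𝟙 _ := Spec.map_id _
    rw [this, Category.comp_id]

/-- The action of the Galois group on `X₀ ×_k K`. -/
noncomputable def galAut : (K ≃ₐ[k] K) →* Aut (FinFr.ext K a) :=
  MonoidHom.mk' (fun σ =>
    { hom := FinFr.galAct a σ⁻¹
      inv := FinFr.galAct a σ
      hom_inv_id := by rw [← galAct_mul, inv_mul_cancel, galAct_one]
      inv_hom_id := by rw [← galAct_mul, mul_inv_cancel, galAct_one] }) (fun σ τ => by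
    apply Iso.ext
    change FinFr.galAct a (σ * τ)⁻¹ = FinFr.galAct a τ⁻¹ ≫ FinFr.galAct a σ⁻¹
    rw [mul_inv_rev, galAct_mul])

theorem galAut_hom (σ : K ≃ₐ[k] K) : (galAut a σ).hom = FinFr.galAct a σ⁻¹ := rfl

theorem isFinite_specι [FiniteDimensional k K] : IsFinite (FinFr.specι k K) := by
  rw [FinFr.specι, IsFinite.SpecMap_iff]
  exact RingHom.finite_algebraMap.2 inferInstance

theorem etale_specι [FiniteDimensional k K] [Algebra.IsSeparable k K] : Etale (FinFr.specι k K) := by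
  have h3 : Algebra.FormallyEtale k K := Algebra.FormallyEtale.of_isSeparable k K
  have h4 : Algebra.FinitePresentation k K := Algebra.FinitePresentation.of_finiteType.1 inferInstance
  have h5 : Algebra.Etale k K := ⟨h3, h4⟩
  exact (HasRingHomProperty.Spec_iff (P := @Etale)).2 (RingHom.etale_algebraMap.2 h5)

theorem surjective_specι : Surjective (FinFr.specι k K) :=
  ⟨fun _ => ⟨IsLocalRing.closedPoint K, @Subsingleton.elim (PrimeSpectrum k) _ _ _⟩⟩

/-- `X₀ ×_k K → X₀` is a torsor for `K / k` finite Galois. -/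
theorem isTors_gal [FiniteDimensional k K] [IsGalois k K] : IsTors (FinFr.extπ K a) (galAut (K := K) a) where
  inv σ := FinFr.galAct_fst a _
  fin := by
    have := isFinite_specι (k := k) (K := K)
    infer_instance
  et := by
    have := etale_specι (k := k) (K := K)
    infer_instance
  surj := by
    have := surjective_specι (k := k) (K := K)
    infer_instance
  simple Ω _ _ s t hst := by
    obtain ⟨u, hu⟩ := Spec.map_surjective (s ≫ FinFr.extStr K a)
    obtain ⟨v, hv⟩ := Spec.map_surjective (t ≫ FinFr.extStr K a)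
    have huv : u.hom.comp (algebraMap k K) = v.hom.comp (algebraMap k K) := by
      have h1 : (s ≫ FinFr.extStr K a) ≫ FinFr.specι k K = (t ≫ FinFr.extStr K a) ≫ FinFr.specι k K := by
        rw [Category.assoc, Category.assoc, ← pullback.condition, ← Category.assoc, ← Category.assoc]
        exact congrArg (· ≫ a) hst
      rw [← hu, ← hv, ← Spec.map_comp, ← Spec.map_comp] at h1
      exact congrArg CommRingCat.Hom.hom (Spec.map_injective h1)
    have key : ∀ σ : K ≃ₐ[k] K, s ≫ (galAut a σ).hom = t ↔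
        u.hom.comp ((σ⁻¹ : K ≃ₐ[k] K) : K →+* K) = v.hom := by
      intro σ
      have h2 : (s ≫ (galAut a σ).hom) ≫ FinFr.extStr K a =
          Spec.map (CommRingCat.ofHom (u.hom.comp ((σ⁻¹ : K ≃ₐ[k] K) : K →+* K))) := by
        rw [Category.assoc, galAut_hom]
        erw [FinFr.galAct_snd]
        rw [← Category.assoc]
        erw [← hu]
        rw [← Spec.map_comp]
        rfl
      constructor
      · intro h
        rw [h, ← hv] at h2
        exact (congrArg CommRingCat.Hom.hom (Spec.map_injective h2)).symm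
      · intro h
        apply pullback.hom_ext
        · rw [Category.assoc, galAut_hom]
          erw [FinFr.galAct_fst]
          exact hst
        · refine h2.trans ?_
          rw [h]
          exact hv
    obtain ⟨σ, hσ, hσu⟩ := exists_unique_algEquiv u.hom v.hom huv
    refine ⟨σ⁻¹, (key _).2 (by rw [inv_inv]; exact hσ), fun τ hτ => ?_⟩
    have := hσu τ⁻¹ ((key τ).1 hτ)
    rw [← this, inv_inv]

end Gal

/-- Change of group. -/
theorem _root_.Groth.Agent.Sga4h.H222.Tors.IsTors.comp_bijective {U W : Scheme.{u}} {q : W ⟶ U} {Γ : Type w} [Group Γ]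
    {ρ : Γ →* Aut W} (H : IsTors q ρ) {Γ' : Type w₁} [Group Γ'] (e : Γ' →* Γ) (he : Function.Bijective e) :
    IsTors q (ρ.comp e) where
  inv g := H.inv (e g)
  fin := H.fin
  et := H.et
  surj := H.surj
  simple Ω _ _ s t hst := by
    obtain ⟨g, hg, hu⟩ := H.simple Ω s t hst
    obtain ⟨g', rfl⟩ := he.2 g
    exact ⟨g', hg, fun g'' h'' => he.1 (hu _ h'')⟩

section Finite

variable {k k' : Type u} [Field k] [Fintype k] [Field k'] [Algebra k k'] [Module.Finite k k']

/-- `Gal(k'/k)` is cyclic generated by the inverse of Frobenius. -/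
theorem exists_equiv {N : ℕ} [NeZero N] (hN : Module.finrank k k' = N) :
    ∃ e : Multiplicative (ZMod N) →* (k' ≃ₐ[k] k'), Function.Bijective e ∧
      e (Multiplicative.ofAdd 1) = (FinFr.arith k k')⁻¹ := by
  have : Finite k' := Module.finite_of_finite k
  let _ : Fintype k' := Fintype.ofFinite k'
  have hg : ∀ x : Multiplicative (ZMod N), x ∈ Subgroup.zpowers (Multiplicative.ofAdd (1 : ZMod N)) := by
    intro x
    refine Subgroup.mem_zpowers_iff.2 ⟨(x.toAdd.val : ℤ), ?_⟩
    rw [← ofAdd_zsmul]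
    simp
  have hg' : ∀ x : k' ≃ₐ[k] k', x ∈ Subgroup.zpowers ((FinFr.arith k k')⁻¹) := by
    intro x
    obtain ⟨n, hn⟩ := (FiniteField.bijective_frobeniusAlgEquivOfAlgebraic_pow k k').2 x
    rw [Subgroup.zpowers_inv, ← hn]
    exact Subgroup.npow_mem_zpowers _ _
  have ho : orderOf (Multiplicative.ofAdd (1 : ZMod N)) = orderOf ((FinFr.arith k k')⁻¹) := by
    rw [orderOf_ofAdd_eq_addOrderOf, ZMod.addOrderOf_one, orderOf_inv,
      FiniteField.orderOf_frobeniusAlgEquivOfAlgebraic, hN]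
  exact ⟨(mulEquivOfOrderOfEq hg hg' ho).toMonoidHom, (mulEquivOfOrderOfEq hg hg' ho).bijective,
    mulEquivOfOrderOfEq_apply_gen hg hg' ho⟩

/-- The base extension to a finite extension of a finite field is a torsor under `ℤ / N`. -/
theorem isTors_ext {N : ℕ} [NeZero N] (hN : Module.finrank k k' = N) {X₀ : Scheme.{u}}
    (a : X₀ ⟶ Spec (CommRingCat.of k)) :
    ∃ ρ : Multiplicative (ZMod N) →* Aut (FinFr.ext k' a), IsTors (FinFr.extπ k' a) ρ ∧
      (ρ (Multiplicative.ofAdd 1)).hom = FinFr.galAct a (FinFr.arith k k') := by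
  obtain ⟨e, he, he1⟩ := exists_equiv (k := k) (k' := k') hN
  have : Finite k' := Module.finite_of_finite k
  refine ⟨(galAut a).comp e, (isTors_gal a).comp_bijective e he, ?_⟩
  rw [MonoidHom.comp_apply, he1, galAut_hom, inv_inv]

end Finite

section Prod

variable {U W₁ W₂ : Scheme.{u}} {q₁ : W₁ ⟶ U} {q₂ : W₂ ⟶ U} {G₁ : Type w₁} [Group G₁] {G₂ : Type w₂} [Group G₂]
  {ρ₁ : G₁ →* Aut W₁} {ρ₂ : G₂ →* Aut W₂} (H₁ : IsTors q₁ ρ₁) (H₂ : IsTors q₂ ρ₂)

include H₁ H₂ in
/-- The action on the fibre product. -/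
theorem exists_prodAct : ∃ ρ : G₁ × G₂ →* Aut (pullback q₁ q₂),
    (∀ g, (ρ g).hom ≫ pullback.fst q₁ q₂ = pullback.fst q₁ q₂ ≫ (ρ₁ g.1).hom) ∧
    (∀ g, (ρ g).hom ≫ pullback.snd q₁ q₂ = pullback.snd q₁ q₂ ≫ (ρ₂ g.2).hom) := by
  let f : G₁ × G₂ → (pullback q₁ q₂ ⟶ pullback q₁ q₂) := fun g =>
    pullback.lift (pullback.fst q₁ q₂ ≫ (ρ₁ g.1).hom) (pullback.snd q₁ q₂ ≫ (ρ₂ g.2).hom) (by
      rw [Category.assoc, H₁.inv, Category.assoc, H₂.inv, pullback.condition])
  have f1 : ∀ g, f g ≫ pullback.fst q₁ q₂ = pullback.fst q₁ q₂ ≫ (ρ₁ g.1).hom := fun g => pullback.lift_fst _ _ _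
  have f2 : ∀ g, f g ≫ pullback.snd q₁ q₂ = pullback.snd q₁ q₂ ≫ (ρ₂ g.2).hom := fun g => pullback.lift_snd _ _ _
  have hmul : ∀ g h, f (g * h) = f h ≫ f g := by
    intro g h
    apply pullback.hom_ext
    · rw [f1, Category.assoc, f1, ← Category.assoc, f1, Category.assoc]
      rw [show (g * h).1 = g.1 * h.1 from rfl, map_mul]
      rfl
    · rw [f2, Category.assoc, f2, ← Category.assoc, f2, Category.assoc]
      rw [show (g * h).2 = g.2 * h.2 from rfl, map_mul]
      rfl
  have hone : f 1 = 𝟙 _ := by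
    apply pullback.hom_ext
    · rw [f1, Category.id_comp, show (1 : G₁ × G₂).1 = 1 from rfl, map_one]
      exact Category.comp_id _
    · rw [f2, Category.id_comp, show (1 : G₁ × G₂).2 = 1 from rfl, map_one]
      exact Category.comp_id _
  let ρ : G₁ × G₂ →* Aut (pullback q₁ q₂) := MonoidHom.mk' (fun g =>
    { hom := f g
      inv := f g⁻¹
      hom_inv_id := by rw [← hmul, inv_mul_cancel, hone]
      inv_hom_id := by rw [← hmul, mul_inv_cancel, hone] }) (fun g h => Iso.ext (hmul g h))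
  exact ⟨ρ, f1, f2⟩

include H₁ H₂ in
/-- The fibre product of two torsors. -/
theorem isTors_prod : ∃ ρ : G₁ × G₂ →* Aut (pullback q₁ q₂),
    IsTors (pullback.fst q₁ q₂ ≫ q₁) ρ ∧
    (∀ g, (ρ g).hom ≫ pullback.fst q₁ q₂ = pullback.fst q₁ q₂ ≫ (ρ₁ g.1).hom) ∧
    (∀ g, (ρ g).hom ≫ pullback.snd q₁ q₂ = pullback.snd q₁ q₂ ≫ (ρ₂ g.2).hom) := by
  obtain ⟨ρ, h1, h2⟩ := exists_prodAct H₁ H₂
  have := H₁.fin
  have := H₂.fin
  have := H₁.et
  have := H₂.et
  have := H₁.surj
  have := H₂.surj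
  refine ⟨ρ, ⟨fun g => ?_, inferInstance, inferInstance, inferInstance, ?_⟩, h1, h2⟩
  · rw [← Category.assoc, h1, Category.assoc, H₁.inv]
  · intro Ω _ _ s t hst
    have e1 : (s ≫ pullback.fst q₁ q₂) ≫ q₁ = (t ≫ pullback.fst q₁ q₂) ≫ q₁ := by
      rw [Category.assoc, Category.assoc, hst]
    have e2 : (s ≫ pullback.snd q₁ q₂) ≫ q₂ = (t ≫ pullback.snd q₁ q₂) ≫ q₂ := by
      rw [Category.assoc, Category.assoc, ← pullback.condition, hst]
    obtain ⟨g₁, hg₁, hu₁⟩ := H₁.simple Ω _ _ e1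
    obtain ⟨g₂, hg₂, hu₂⟩ := H₂.simple Ω _ _ e2
    refine ⟨(g₁, g₂), ?_, ?_⟩
    · apply pullback.hom_ext
      · rw [Category.assoc, h1, ← Category.assoc]; exact hg₁
      · rw [Category.assoc, h2, ← Category.assoc]; exact hg₂
    · rintro ⟨g, g'⟩ h
      have h1' := congrArg (· ≫ pullback.fst q₁ q₂) h
      have h2' := congrArg (· ≫ pullback.snd q₁ q₂) h
      simp only [Category.assoc, h1, h2] at h1' h2'
      rw [hu₁ g (by simpa only [Category.assoc] using h1'), hu₂ g' (by simpa only [Category.assoc] using h2')]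

end Prod

end Groth.Agent.Sga4h.H526.TorsConstr
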